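import Mathlib

/-!
Graded Lie rings of maximal class type in characteristic `p`, with two generators `a`, `b` that
are eigenvectors of a graded automorphism, all homogeneous parts in degrees `2 ≤ k`, `k ≠ j₀`,
being one-dimensional.  The chain `b, [b, a], [b, a, a], ...` (possibly after exchanging `a` and
`b`) does not vanish before the last but one degree `n - 1`, for even `n < p`.
-/

set_option autoImplicit false
set_option linter.unusedSectionVars false

namespace Cfsg.Agent.Lib.PF.Sec12.NarrowLine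

universe u

variable {T : Type u} [LieRing T]

/-- The chain `b, [b, a], [b, a, a], ...`, indexed by the degree. -/
def chain (a b : T) : ℕ → T
  | 0 => 0
  | 1 => b
  | t + 2 => ⁅chain a b (t + 1), a⁆

/-- The side branches `[b, a, ..., a, b]` of the chain. -/
def side (a b : T) (i : ℕ) : T := ⁅chain a b i, b⁆

/-- The side branch at `i` is annihilated by the generators. -/
def IsDead (a b : T) (i : ℕ) : Prop := ⁅side a b i, a⁆ = 0 ∧ ⁅side a b i, b⁆ = 0

theorem chain_succ (a b : T) {t : ℕ} (ht : 1 ≤ t) :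
    chain a b (t + 1) = ⁅chain a b t, a⁆ := by
  obtain ⟨t, rfl⟩ := Nat.exists_eq_add_of_le' ht
  rfl

theorem chain_eq_zero (a b : T) {t : ℕ} (ht : 1 ≤ t) (h : chain a b t = 0) :
    ∀ s, t ≤ s → chain a b s = 0 := by
  intro s hs
  induction s, hs using Nat.le_induction with
  | base => exact h
  | succ s hs ih => rw [chain_succ a b (by omega), ih, zero_lie]

theorem lie_der (u v c : T) : ⁅⁅u, v⁆, c⁆ = ⁅⁅u, c⁆, v⁆ + ⁅u, ⁅v, c⁆⁆ := by
  rw [lie_lie, ← lie_skew ⁅u, c⁆ v]
  abel

theorem lie_chain_eq_zero {a b u : T} (ha : ⁅u, a⁆ = 0) (hb : ⁅u, b⁆ = 0) :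
    ∀ t, ⁅u, chain a b t⁆ = 0
  | 0 => lie_zero u
  | 1 => hb
  | t + 2 => by
    show ⁅u, ⁅chain a b (t + 1), a⁆⁆ = 0
    rw [leibniz_lie, lie_chain_eq_zero ha hb (t + 1), ha, zero_lie, lie_zero, add_zero]

theorem chain_lie_eq_zero {a b u : T} (ha : ⁅u, a⁆ = 0) (hb : ⁅u, b⁆ = 0) (t : ℕ) :
    ⁅chain a b t, u⁆ = 0 := by
  rw [← lie_skew, lie_chain_eq_zero ha hb, neg_zero]

theorem isDead_zero (a b : T) : IsDead a b 0 := by simp [IsDead, side, chain]

theorem isDead_one (a b : T) : IsDead a b 1 := by simp [IsDead, side, chain]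

theorem chain_lie_succ (a b : T) {i k : ℕ} (hi : 1 ≤ i) (hk : 1 ≤ k) :
    ⁅chain a b i, chain a b (k + 1)⁆ =
      ⁅⁅chain a b i, chain a b k⁆, a⁆ - ⁅chain a b (i + 1), chain a b k⁆ := by
  rw [chain_succ a b hi, chain_succ a b hk, lie_der (chain a b i) (chain a b k) a,
    add_sub_cancel_left]

variable {p : ℕ} [hp : Fact p.Prime] [Module (ZMod p) T]

theorem smul_lie' (c : ZMod p) (u v : T) : ⁅c • u, v⁆ = c • ⁅u, v⁆ :=
  ZMod.map_smul (AddMonoidHom.mk' (fun w : T => ⁅w, v⁆) fun s t => add_lie s t v) c u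

theorem lie_smul' (c : ZMod p) (u v : T) : ⁅u, c • v⁆ = c • ⁅u, v⁆ :=
  ZMod.map_smul (AddMonoidHom.mk' (fun w : T => ⁅u, w⁆) fun s t => lie_add u s t) c v

theorem natCast_ne_zero {m : ℕ} (h0 : 0 < m) (h : m < p) : (m : ZMod p) ≠ 0 := fun e =>
  Nat.not_dvd_of_pos_of_lt h0 h ((ZMod.natCast_eq_zero_iff m p).mp e)

/-- The hypotheses. -/
structure MaxLie (p n j₀ : ℕ) [Fact p.Prime] [Module (ZMod p) T] (W : ℕ → AddSubgroup T)
    (f : T →+ T) (a b : T) (lam mu : ZMod p) : Prop where
  even : Even n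
  six_le : 6 ≤ n
  lt : n < p
  mem_a : a ∈ W 1
  mem_b : b ∈ W 1
  lie_mem : ∀ i j u v, u ∈ W i → v ∈ W j → ⁅u, v⁆ ∈ W (i + j)
  gen : ∀ k, 1 ≤ k → ∀ S : AddSubgroup T, (∀ u ∈ W k, ⁅u, a⁆ ∈ S ∧ ⁅u, b⁆ ∈ S) → W (k + 1) ≤ S
  ne : ∀ k, 1 ≤ k → k ≤ n → W k ≠ ⊥
  small : ∀ k, 2 ≤ k → k ≠ j₀ → ∀ u ∈ W k, ∀ v ∈ W k, u ≠ 0 → ∃ c : ZMod p, v = c • u
  special : j₀ ≠ 2
  map_lie : ∀ u v, f ⁅u, v⁆ = ⁅f u, f v⁆
  map_a : f a = lam • a
  map_b : f b = mu • b
  ne_eigen : lam ≠ mu
  sq_ne : lam ^ 2 ≠ mu ^ 2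
  lam_ne : lam ≠ 0
  mu_ne : mu ≠ 0
  start : ⁅b, a⁆ ≠ 0

namespace MaxLie

variable {n j₀ : ℕ} {W : ℕ → AddSubgroup T} {f : T →+ T} {a b : T} {lam mu : ZMod p}
  (h : MaxLie p n j₀ W f a b lam mu)
include h

theorem swap : MaxLie p n j₀ W f b a mu lam where
  even := h.even
  six_le := h.six_le
  lt := h.lt
  mem_a := h.mem_b
  mem_b := h.mem_a
  lie_mem := h.lie_mem
  gen k hk S hS := h.gen k hk S fun u hu => (hS u hu).symm
  ne := h.ne
  small := h.small
  special := h.special
  map_lie := h.map_lie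
  map_a := h.map_b
  map_b := h.map_a
  ne_eigen := h.ne_eigen.symm
  sq_ne := h.sq_ne.symm
  lam_ne := h.mu_ne
  mu_ne := h.lam_ne
  start e := h.start (by rw [← lie_skew, e, neg_zero])

theorem chain_mem : ∀ t, 1 ≤ t → chain a b t ∈ W t
  | 1, _ => h.mem_b
  | t + 2, _ => h.lie_mem (t + 1) 1 _ _ (chain_mem (t + 1) (by omega)) h.mem_a

theorem side_mem {i : ℕ} (hi : 1 ≤ i) : side a b i ∈ W (i + 1) :=
  h.lie_mem i 1 _ _ (h.chain_mem i hi) h.mem_b

theorem map_lie_eigen {u v : T} {α β : ZMod p} (hu : f u = α • u) (hv : f v = β • v) :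
    f ⁅u, v⁆ = (α * β) • ⁅u, v⁆ := by
  rw [h.map_lie, hu, hv, smul_lie', lie_smul', smul_smul]

theorem map_chain : ∀ t, f (chain a b (t + 1)) = (lam ^ t * mu) • chain a b (t + 1)
  | 0 => by rw [pow_zero, one_mul]; exact h.map_b
  | t + 1 => by
    rw [chain_succ a b (by omega), h.map_lie_eigen (map_chain t) h.map_a]
    congr 1
    ring

theorem map_side (i : ℕ) : f (side a b (i + 1)) = (lam ^ i * mu ^ 2) • side a b (i + 1) := by
  rw [side, h.map_lie_eigen (h.map_chain i) h.map_b]
  congr 1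
  ring

/-- Two eigenvectors in a one-dimensional degree with different eigenvalues. -/
theorem sep {k : ℕ} (hk : 2 ≤ k) (hk0 : k ≠ j₀) {u v : T} (hu : u ∈ W k) (hv : v ∈ W k)
    {α β : ZMod p} (eu : f u = α • u) (ev : f v = β • v) (hne : α ≠ β) (hu0 : u ≠ 0) : v = 0 := by
  obtain ⟨c, rfl⟩ := h.small k hk hk0 u hu v hv hu0
  rw [ZMod.map_smul, eu, smul_smul, smul_smul, ← sub_eq_zero, ← sub_smul] at ev
  rcases smul_eq_zero.mp ev with hz | hz
  · have : c * (α - β) = 0 := by linear_combination hz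
    rw [(mul_eq_zero.mp this).resolve_right (sub_ne_zero.mpr hne), zero_smul]
  · exact absurd hz hu0

/-- Degree `k ≥ 2` is spanned by the chain and the branch, as long as the branches are dead. -/
theorem span {t : ℕ} (hdead : ∀ i, i + 1 < t → IsDead a b i) : ∀ k, 2 ≤ k → k ≤ t →
    ∀ u ∈ W k, ∃ α β : ZMod p, u = α • chain a b k + β • side a b (k - 1) := by
  intro k hk
  induction k, hk using Nat.le_induction with
  | base =>
    intro _ u hu
    obtain ⟨c, rfl⟩ := h.small 2 le_rfl h.special.symm _ (h.chain_mem 2 (by omega)) u hu h.start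
    exact ⟨c, 0, by rw [zero_smul, add_zero]⟩
  | succ k hk ih =>
    intro hkt
    let S : AddSubgroup T :=
      { carrier := {u | ∃ α β : ZMod p, u = α • chain a b (k + 1) + β • side a b k}
        zero_mem' := ⟨0, 0, by rw [zero_smul, zero_smul, add_zero]⟩
        add_mem' := by
          rintro _ _ ⟨α, β, rfl⟩ ⟨α', β', rfl⟩
          exact ⟨α + α', β + β', by rw [add_smul, add_smul]; abel⟩
        neg_mem' := by
          rintro _ ⟨α, β, rfl⟩
          exact ⟨-α, -β, by rw [neg_smul, neg_smul, neg_add]⟩ }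
    show W (k + 1) ≤ S
    refine h.gen k (by omega) S fun u hu => ?_
    obtain ⟨α, β, rfl⟩ := ih (by omega) u hu
    have hd := hdead (k - 1) (by omega)
    refine ⟨⟨α, 0, ?_⟩, ⟨0, α, ?_⟩⟩
    · rw [add_lie, smul_lie', smul_lie', hd.1, smul_zero, add_zero, zero_smul, add_zero,
        chain_succ a b (by omega)]
    · rw [add_lie, smul_lie', smul_lie', hd.2, smul_zero, add_zero, zero_smul, zero_add]
      rfl

theorem eq_bot_succ {k : ℕ} (hk : 1 ≤ k) {v : T} (hW : ∀ u ∈ W k, ∃ c : ZMod p, u = c • v)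
    (ha : ⁅v, a⁆ = 0) (hb : ⁅v, b⁆ = 0) : W (k + 1) = ⊥ := by
  refine le_bot_iff.mp (h.gen k hk ⊥ fun u hu => ?_)
  obtain ⟨c, rfl⟩ := hW u hu
  constructor <;> rw [AddSubgroup.mem_bot, smul_lie']
  · rw [ha, smul_zero]
  · rw [hb, smul_zero]

/-! ### Brackets of two members of the chain -/

omit h in
theorem lie_chain_low {j : ℕ} (hd : ∀ l, l < j → IsDead a b l) : ∀ k i, 1 ≤ i → i + k ≤ j →
    ⁅chain a b i, chain a b (k + 1)⁆ = (-1 : ZMod p) ^ k • side a b (i + k) := by
  intro k
  induction k with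
  | zero =>
    intro i _ _
    rw [pow_zero, one_smul]
    rfl
  | succ k ih =>
    intro i hi hik
    rw [chain_lie_succ a b hi (by omega), ih i hi (by omega), ih (i + 1) (by omega) (by omega),
      smul_lie', (hd (i + k) (by omega)).1, smul_zero, zero_sub, pow_succ, mul_neg, mul_one,
      neg_smul, show i + 1 + k = i + (k + 1) by omega]

omit h in
theorem lie_chain_one {j : ℕ} (hd : ∀ l, l < j → IsDead a b l) : ∀ k i, 1 ≤ i → i + k = j + 1 →
    ⁅chain a b i, chain a b (k + 1)⁆ =
      (-1 : ZMod p) ^ k • (side a b (j + 1) - (k : ZMod p) • ⁅side a b j, a⁆) := by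
  intro k
  induction k with
  | zero =>
    intro i _ hik
    rw [pow_zero, one_smul, Nat.cast_zero, zero_smul, sub_zero, ← hik]
    rfl
  | succ k ih =>
    intro i hi hik
    rw [chain_lie_succ a b hi (by omega), lie_chain_low (p := p) hd k i hi (by omega),
      ih (i + 1) (by omega) (by omega), smul_lie', show i + k = j by omega, pow_succ,
      Nat.cast_succ]
    module

omit h in
theorem lie_chain_two {j : ℕ} (hd : ∀ l, l < j → IsDead a b l) (hz : chain a b (j + 2) = 0)
    (c : ZMod p) (hY : side a b (j + 1) = c • ⁅side a b j, a⁆) :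
    ∀ k i, 1 ≤ i → i + k = j + 2 → (2 : ZMod p) • ⁅chain a b i, chain a b (k + 1)⁆ =
      ((-1 : ZMod p) ^ (k + 1) * (2 * k * c - k * ((k : ZMod p) - 1))) •
        ⁅⁅side a b j, a⁆, a⁆ := by
  intro k
  induction k with
  | zero =>
    intro i _ hik
    obtain rfl : i = j + 2 := hik
    rw [hz, zero_lie, smul_zero, Nat.cast_zero, show ((-1 : ZMod p) ^ (0 + 1) *
      (2 * 0 * c - 0 * ((0 : ZMod p) - 1))) = 0 by ring, zero_smul]
  | succ k ih =>
    intro i hi hik
    rw [chain_lie_succ a b hi (by omega), smul_sub, lie_chain_one (p := p) hd k i hi (by omega),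
      ih (i + 1) (by omega) (by omega), hY, ← sub_smul, smul_lie', smul_lie', Nat.cast_succ]
    simp only [pow_succ]
    module

omit h in
theorem lie_chain_three {j : ℕ} (hd : ∀ l, l < j → IsDead a b l) (hz : chain a b (j + 2) = 0)
    (c : ZMod p) (hY : side a b (j + 1) = c • ⁅side a b j, a⁆) :
    ∀ k i, 1 ≤ i → i + k = j + 3 → (6 : ZMod p) • ⁅chain a b i, chain a b (k + 1)⁆ =
      ((-1 : ZMod p) ^ k * (3 * c * (k * ((k : ZMod p) - 1))
          - k * ((k : ZMod p) - 1) * ((k : ZMod p) - 2))) •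
        ⁅⁅⁅side a b j, a⁆, a⁆, a⁆ := by
  intro k
  induction k with
  | zero =>
    intro i _ hik
    obtain rfl : i = j + 3 := hik
    rw [chain_eq_zero a b (by omega) hz (j + 3) (by omega), zero_lie, smul_zero, Nat.cast_zero,
      show ((-1 : ZMod p) ^ 0 * (3 * c * (0 * ((0 : ZMod p) - 1))
        - 0 * ((0 : ZMod p) - 1) * ((0 : ZMod p) - 2))) = 0 by ring, zero_smul]
  | succ k ih =>
    intro i hi hik
    have e : (6 : ZMod p) • ⁅⁅chain a b i, chain a b (k + 1)⁆, a⁆ =
        (3 : ZMod p) • ⁅(2 : ZMod p) • ⁅chain a b i, chain a b (k + 1)⁆, a⁆ := by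
      rw [smul_lie', smul_smul]
      norm_num
    rw [chain_lie_succ a b hi (by omega), smul_sub, e,
      lie_chain_two hd hz c hY k i hi (by omega),
      ih (i + 1) (by omega) (by omega), smul_lie', Nat.cast_succ]
    simp only [pow_succ]
    module

omit h in
/-- The middle bracket kills an odd branch. -/
theorem side_eq_zero_of_odd (p : ℕ) [Fact p.Prime] [Module (ZMod p) T] {j : ℕ} (hd : ∀ l, l < j → IsDead a b l) (hodd : Odd j) :
    side a b j = 0 := by
  obtain ⟨m, rfl⟩ := hodd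
  have e := lie_chain_low (p := p) hd m (m + 1) (by omega) (by omega)
  rw [lie_self, eq_comm, smul_eq_zero, show m + 1 + m = 2 * m + 1 by omega] at e
  exact e.resolve_left (pow_ne_zero _ (neg_ne_zero.mpr one_ne_zero))

omit h in
/-- The middle bracket relates the two continuations of an even branch. -/
theorem side_succ_of_even {j m : ℕ} (hd : ∀ l, l < j → IsDead a b l) (hj : j = 2 * m) :
    side a b (j + 1) = (m : ZMod p) • ⁅side a b j, a⁆ := by
  have e := lie_chain_one (p := p) hd m (m + 1) (by omega) (by omega)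
  rw [lie_self, eq_comm, smul_eq_zero] at e
  exact sub_eq_zero.mp (e.resolve_left (pow_ne_zero _ (neg_ne_zero.mpr one_ne_zero)))

omit h in
/-- An even branch of degree at least four is killed by `b`. -/
theorem lie_side_b (p : ℕ) [Fact p.Prime] [Module (ZMod p) T] {j : ℕ} (hd : ∀ l, l < j → IsDead a b l) (hj : 3 ≤ j) (hev : Even j) :
    ⁅side a b j, b⁆ = 0 := by
  have e := lie_chain_low (p := p) hd (j - 2) 2 (by omega) (by omega)
  rw [show 2 + (j - 2) = j by omega, Even.neg_one_pow (by grind), one_smul] at e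
  rw [← e, lie_der]
  have h2 := hd 2 (by omega)
  have h3 := hd (j - 2 + 1) (by omega)
  show ⁅side a b 2, chain a b (j - 2 + 1)⁆ + ⁅chain a b 2, side a b (j - 2 + 1)⁆ = 0
  rw [lie_chain_eq_zero h2.1 h2.2, chain_lie_eq_zero h3.1 h3.2, add_zero]

/-- The branches below the top of the chain are dead. -/
theorem dead_below {t : ℕ} (ht : chain a b t ≠ 0) :
    ∀ i, i + 1 < t → IsDead a b i := by
  intro i
  induction i using Nat.strong_induction_on with
  | _ i ih =>
    intro hit
    rcases i with _ | _ | i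
    · exact isDead_zero a b
    · exact isDead_one a b
    have hne : ∀ s, 1 ≤ s → s ≤ t → chain a b s ≠ 0 := fun s hs hst e =>
      ht (chain_eq_zero a b hs e t hst)
    have hd : ∀ l, l < i + 2 → IsDead a b l := fun l hl => ih l hl (by omega)
    have hzero : side a b (i + 2) = 0 → IsDead a b (i + 2) := fun e => by
      simp [IsDead, e]
    by_cases hk0 : i + 3 = j₀
    · rcases Nat.even_or_odd (i + 2) with hev | hodd
      · obtain ⟨m, hm⟩ := hev
        have hY := side_succ_of_even (p := p) hd (m := m) (by omega)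
        have he : chain a b (i + 4) ∈ W (i + 4) := h.chain_mem _ (by omega)
        have hX : ⁅side a b (i + 2), a⁆ = 0 := by
          refine h.sep (k := i + 4) (by omega) (by omega) he
            (h.lie_mem (i + 3) 1 _ _ (h.side_mem (by omega)) h.mem_a) (h.map_chain (i + 3))
            (h.map_lie_eigen (h.map_side (i + 1)) h.map_a) ?_ (hne _ (by omega) (by omega))
          intro e
          refine h.ne_eigen (mul_left_cancel₀ (mul_ne_zero (pow_ne_zero (i + 2) h.lam_ne) h.mu_ne) ?_)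
          linear_combination e
        refine ⟨hX, h.sep (k := i + 4) (by omega) (by omega) he
          (h.lie_mem (i + 3) 1 _ _ (h.side_mem (by omega)) h.mem_b) (h.map_chain (i + 3))
          (h.map_lie_eigen (h.map_side (i + 1)) h.map_b) ?_ (hne _ (by omega) (by omega))⟩
        intro e
        refine h.sq_ne (mul_left_cancel₀ (mul_ne_zero (pow_ne_zero (i + 1) h.lam_ne) h.mu_ne) ?_)
        linear_combination e
      · exact hzero (side_eq_zero_of_odd p hd hodd)
    · refine hzero (h.sep (k := i + 3) (by omega) hk0 (h.chain_mem _ (by omega))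
        (h.side_mem (i := i + 2) (by omega)) (h.map_chain (i + 2)) (h.map_side (i + 1)) ?_
        (hne _ (by omega) (by omega)))
      intro e
      refine h.ne_eigen (mul_left_cancel₀ (mul_ne_zero (pow_ne_zero (i + 1) h.lam_ne) h.mu_ne) ?_)
      linear_combination e

/-- What follows a live branch at `j` next to the end of the chain. -/
theorem branch_spans {j m : ℕ} (hj : j = 2 * m) (hj1 : 2 ≤ j)
    (hd : ∀ l, l < j → IsDead a b l) (hz : chain a b (j + 2) = 0)
    (hb : ⁅side a b j, b⁆ = 0) :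
    (∀ u ∈ W (j + 2), ∃ c : ZMod p, u = c • ⁅side a b j, a⁆) ∧
      (⁅⁅side a b j, a⁆, a⁆ = 0 → ∀ u ∈ W (j + 3), ∃ c : ZMod p, u = c • ⁅⁅side a b j, a⁆, b⁆) ∧
      (⁅⁅side a b j, a⁆, b⁆ = 0 → ∀ u ∈ W (j + 3), ∃ c : ZMod p, u = c • ⁅⁅side a b j, a⁆, a⁆) := by
  have hY := side_succ_of_even (p := p) hd hj
  set X := ⁅side a b j, a⁆ with hX
  let S : T → AddSubgroup T := fun v =>
    { carrier := {u | ∃ c : ZMod p, u = c • v}
      zero_mem' := ⟨0, (zero_smul _ v).symm⟩
      add_mem' := by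
        rintro _ _ ⟨c, rfl⟩ ⟨c', rfl⟩
        exact ⟨c + c', (add_smul _ _ v).symm⟩
      neg_mem' := by
        rintro _ ⟨c, rfl⟩
        exact ⟨-c, (neg_smul _ v).symm⟩ }
  have h2 : W (j + 2) ≤ S X := h.gen (j + 1) (by omega) (S X) fun u hu => by
    obtain ⟨α, β, rfl⟩ := h.span (t := j + 1) (fun i hi => hd i (by omega)) (j + 1) (by omega) le_rfl u hu
    rw [add_tsub_cancel_right]
    refine ⟨⟨β, ?_⟩, ⟨α * (m : ZMod p), ?_⟩⟩
    · rw [add_lie, smul_lie', smul_lie', ← chain_succ a b (by omega), hz, smul_zero, zero_add]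
    · rw [add_lie, smul_lie', smul_lie', hb, smul_zero, add_zero, ← smul_smul, ← hY]
      rfl
  refine ⟨fun u hu => h2 hu, fun h1 u hu => ?_, fun h1 u hu => ?_⟩
  · refine h.gen (j + 2) (by omega) (S ⁅X, b⁆) (fun v hv => ?_) hu
    obtain ⟨c, rfl⟩ := h2 hv
    exact ⟨⟨0, by rw [smul_lie', h1, smul_zero, zero_smul]⟩, ⟨c, smul_lie' c X b⟩⟩
  · refine h.gen (j + 2) (by omega) (S ⁅X, a⁆) (fun v hv => ?_) hu
    obtain ⟨c, rfl⟩ := h2 hv
    exact ⟨⟨c, smul_lie' c X a⟩, ⟨0, by rw [smul_lie', h1, smul_zero, zero_smul]⟩⟩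

/-- The fourth continuation along `a` vanishes. -/
theorem branch_a {j m : ℕ} (hj : j = 2 * m) (hm : 1 ≤ m) (hjn : j + 3 ≤ n)
    (hd : ∀ l, l < j → IsDead a b l) (hz : chain a b (j + 2) = 0) :
    ⁅⁅⁅side a b j, a⁆, a⁆, a⁆ = 0 := by
  have hY := side_succ_of_even (p := p) hd hj
  have e := lie_chain_three hd hz (m : ZMod p) hY (m + 1) (m + 2) (by omega) (by omega)
  rw [lie_self, smul_zero, eq_comm, smul_eq_zero] at e
  refine e.resolve_left (mul_ne_zero (pow_ne_zero _ (neg_ne_zero.mpr one_ne_zero)) ?_)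
  have hlt := h.lt
  have h1 := natCast_ne_zero (p := p) (m := m) (by omega) (by omega)
  have h2 := natCast_ne_zero (p := p) (m := m + 1) (by omega) (by omega)
  have h3 := natCast_ne_zero (p := p) (m := 2 * m + 1) (by omega) (by omega)
  intro e'
  refine mul_ne_zero (mul_ne_zero h1 h2) h3 ?_
  push_cast at e' ⊢
  linear_combination e'

/-- The third continuation `[e_{j + 1}, e_2]`. -/
theorem lie_chain_second {j m : ℕ} (hj : j = 2 * m) (hjn : j + 3 ≤ n)
    (hd : ∀ l, l < j → IsDead a b l) (hz : chain a b (j + 2) = 0) :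
    ⁅chain a b (j + 1), chain a b 2⁆ = (m : ZMod p) • ⁅⁅side a b j, a⁆, a⁆ := by
  have e := lie_chain_two hd hz (m : ZMod p) (side_succ_of_even hd hj) 1 (j + 1) (by omega)
    (by omega)
  rw [show ((-1 : ZMod p) ^ (1 + 1) * (2 * ((1 : ℕ) : ZMod p) * m -
    ((1 : ℕ) : ZMod p) * (((1 : ℕ) : ZMod p) - 1))) = 2 * (m : ZMod p) by push_cast; ring,
    ← smul_smul] at e
  have h2 : (2 : ZMod p) ≠ 0 := by
    have := natCast_ne_zero (p := p) (m := 2) (by omega) (by have := h.lt; omega)
    exact_mod_cast this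
  exact smul_right_injective T h2 e

/-- A live branch of degree at least four next to the end of the chain is impossible. -/
theorem false_of_branch {j : ℕ} (hj : 4 ≤ j) (hev : Even j) (hjn : j + 4 ≤ n)
    (hd : ∀ l, l < j → IsDead a b l) (hz : chain a b (j + 2) = 0) (hk0 : j + 1 = j₀) : False := by
  obtain ⟨m, hm⟩ := hev
  have hj2 : j = 2 * m := by omega
  have hb := lie_side_b p hd (by omega) ⟨m, hm⟩
  obtain ⟨-, hspanA, hspanB⟩ := h.branch_spans hj2 (by omega) hd hz hb
  have hY := side_succ_of_even (p := p) hd hj2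
  have hF := h.lie_chain_second hj2 (by omega) hd hz
  set X := ⁅side a b j, a⁆ with hX
  have h2dead := hd 2 (by omega)
  have hXe : ⁅X, chain a b 2⁆ = ⁅⁅X, a⁆, b⁆ := by
    refine smul_right_injective T (natCast_ne_zero (p := p) (m := m) (by omega)
      (by have := h.lt; omega)) ?_
    show (m : ZMod p) • _ = (m : ZMod p) • _
    rw [← smul_lie', ← hY, ← smul_lie', ← hF, side, lie_der _ b (chain a b 2),
      ← lie_skew b (chain a b 2), lie_neg]
    show _ + -⁅chain a b (j + 1), side a b 2⁆ = _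
    rw [chain_lie_eq_zero h2dead.1 h2dead.2, neg_zero, add_zero]
  have hab : ⁅a, b⁆ = -chain a b 2 := (lie_skew a b).symm
  have hswap : ⁅⁅X, a⁆, b⁆ = ⁅⁅X, b⁆, a⁆ - ⁅X, chain a b 2⁆ := by
    rw [lie_der X a b, hab, lie_neg, sub_eq_add_neg]
  have hXb : ⁅X, b⁆ = -⁅side a b j, chain a b 2⁆ := by
    rw [hX, lie_der, hb, zero_lie, zero_add, hab, lie_neg]
  by_cases hW2 : ⁅X, b⁆ = 0
  · refine h.ne (j + 3 + 1) (by omega) hjn (h.eq_bot_succ (by omega) (hspanB hW2)
      (h.branch_a hj2 (by omega) (by omega) hd hz) ?_)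
    have e : (2 : ZMod p) • ⁅⁅X, a⁆, b⁆ = 0 := by
      rw [two_smul]
      nth_rw 1 [hswap]
      rw [hW2, zero_lie, zero_sub, hXe, neg_add_cancel]
    refine (smul_eq_zero.mp e).resolve_left ?_
    have := natCast_ne_zero (p := p) (m := 2) (by omega) (by have := h.lt; omega)
    exact_mod_cast this
  · have hW1 : ⁅X, a⁆ = 0 := by
      refine h.sep (k := j + 3) (by omega) (by omega)
        (h.lie_mem (j + 2) 1 _ _ (h.lie_mem (j + 1) 1 _ _ (h.side_mem (by omega)) h.mem_a) h.mem_b)
        (h.lie_mem (j + 2) 1 _ _ (h.lie_mem (j + 1) 1 _ _ (h.side_mem (by omega)) h.mem_a) h.mem_a)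
        (h.map_lie_eigen (h.map_lie_eigen (u := side a b j)
          (by rw [show j = j - 1 + 1 by omega]; exact h.map_side (j - 1)) h.map_a) h.map_b)
        (h.map_lie_eigen (h.map_lie_eigen (u := side a b j)
          (by rw [show j = j - 1 + 1 by omega]; exact h.map_side (j - 1)) h.map_a) h.map_a) ?_ hW2
      intro e
      exact h.ne_eigen (mul_left_cancel₀ (mul_ne_zero (mul_ne_zero (pow_ne_zero _ h.lam_ne)
        (pow_ne_zero _ h.mu_ne)) h.lam_ne) e).symm
    refine h.ne (j + 3 + 1) (by omega) hjn (h.eq_bot_succ (by omega) (hspanA hW1) ?_ ?_)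
    · rw [hW1, zero_lie] at hXe hswap
      rw [hXe, sub_zero] at hswap
      exact hswap.symm
    · rw [hXb, neg_lie, lie_der (side a b j), hb, zero_lie, zero_add,
        show ⁅chain a b 2, b⁆ = side a b 2 from rfl]
      rw [← lie_skew, neg_neg]
      show ⁅side a b 2, ⁅chain a b j, b⁆⁆ = 0
      rw [leibniz_lie, lie_chain_eq_zero h2dead.1 h2dead.2, h2dead.2, zero_lie, lie_zero, add_zero]

/-- The chain does not vanish before degree `n`. -/
theorem chain_ne_zero (h3 : chain a b 3 ≠ 0) (h4 : chain a b 4 ≠ 0 ∨ IsDead a b 2) :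
    ∀ t, 1 ≤ t → t < n → chain a b t ≠ 0 := by
  intro t ht
  induction t, ht using Nat.le_induction with
  | base => exact fun _ e => h.start (by rw [show b = chain a b 1 from rfl, e, zero_lie])
  | succ t ht ih =>
    intro htn hz
    have hne := ih (by omega)
    have ht3 : 3 ≤ t := by
      rcases Nat.lt_or_ge t 3 with hlt | hge
      · exact absurd (chain_eq_zero a b (by omega) hz 3 (by omega)) h3
      · exact hge
    have hbelow := h.dead_below hne
    by_cases hlive : IsDead a b (t - 1)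
    · -- the branch at `t` is all of degree `t + 1`
      have hd : ∀ l, l < t → IsDead a b l := fun l hl => by
        rcases Nat.lt_or_ge (l + 1) t with hl' | hl'
        · exact hbelow l hl'
        · rwa [show l = t - 1 by omega]
      have hspan : ∀ u ∈ W (t + 1), ∃ c : ZMod p, u = c • side a b t := fun u hu => by
        obtain ⟨α, β, rfl⟩ := h.span (t := t + 1) (fun i hi => hd i (by omega)) (t + 1)
          (by omega) le_rfl u hu
        exact ⟨β, by rw [hz, smul_zero, zero_add, add_tsub_cancel_right]⟩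
      rcases Nat.even_or_odd t with hev | hodd
      · obtain ⟨m, hm⟩ := hev
        refine h.ne (t + 1 + 1) (by omega) (by omega) (h.eq_bot_succ (by omega) hspan ?_
          (lie_side_b p hd ht3 ⟨m, hm⟩))
        have e := side_succ_of_even (p := p) hd (m := m) (by omega)
        rw [side, hz, zero_lie, eq_comm, smul_eq_zero] at e
        exact e.resolve_left (natCast_ne_zero (by omega) (by have := h.lt; omega))
      · refine h.ne (t + 1) (by omega) (by omega) (le_bot_iff.mp fun u hu => ?_)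
        obtain ⟨c, rfl⟩ := hspan u hu
        rw [AddSubgroup.mem_bot, side_eq_zero_of_odd p hd hodd, smul_zero]
    · -- a live branch at `t - 1`
      obtain ⟨j, rfl⟩ : ∃ j, t = j + 1 := ⟨t - 1, by omega⟩
      rw [add_tsub_cancel_right] at hlive
      have hd : ∀ l, l < j → IsDead a b l := fun l hl => hbelow l (by omega)
      have hne0 : side a b j ≠ 0 := fun e => hlive (by simp [IsDead, e])
      have hev : Even j := (Nat.even_or_odd j).resolve_right fun ho =>
        hne0 (side_eq_zero_of_odd p hd ho)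
      have hk0 : j + 1 = j₀ := by
        by_contra hk
        refine hne0 (h.sep (k := j + 1) (by omega) hk (h.chain_mem _ (by omega))
          (h.side_mem (by omega)) (h.map_chain j)
          (by rw [show j = j - 1 + 1 by omega]; exact h.map_side (j - 1)) ?_ hne)
        intro e
        refine h.ne_eigen (mul_left_cancel₀ (mul_ne_zero (pow_ne_zero (j - 1) h.lam_ne) h.mu_ne) ?_)
        obtain ⟨l, rfl⟩ : ∃ l, j = l + 1 := ⟨j - 1, by omega⟩
        simp only [add_tsub_cancel_right, pow_succ] at e ⊢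
        linear_combination e
      have hj4 : 4 ≤ j := by
        obtain ⟨m, hm⟩ := hev
        by_contra hlt
        obtain rfl : j = 2 := by omega
        exact h4.elim (fun e => e hz) hlive
      refine h.false_of_branch hj4 hev ?_ hd hz hk0
      obtain ⟨m, hm⟩ := hev
      obtain ⟨l, hl⟩ := h.even
      omega

/-- The configuration with both chains ending in degree four is impossible. -/
theorem false_of_double (h4 : chain a b 4 = 0)
    (hb : ⁅side a b 2, b⁆ = 0) (hW2 : ⁅⁅side a b 2, a⁆, b⁆ = 0) : False := by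
  have hd : ∀ l, l < 2 → IsDead a b l := by
    intro l hl
    interval_cases l
    · exact isDead_zero a b
    · exact isDead_one a b
  obtain ⟨-, -, hspanB⟩ := h.branch_spans (m := 1) rfl le_rfl hd h4 hb
  have hsix := h.six_le
  have hY : side a b 3 = ⁅side a b 2, a⁆ := by
    rw [side_succ_of_even (p := p) hd (m := 1) rfl, Nat.cast_one, one_smul]
  have hF : ⁅chain a b 3, chain a b 2⁆ = ⁅⁅side a b 2, a⁆, a⁆ := by
    rw [h.lie_chain_second (m := 1) rfl (by omega) hd h4, Nat.cast_one, one_smul]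
  refine h.ne (5 + 1) (by omega) hsix (h.eq_bot_succ (by omega) (hspanB hW2)
    (h.branch_a (m := 1) rfl le_rfl (by omega) hd h4) ?_)
  set X := ⁅side a b 2, a⁆ with hX
  set q := ⁅X, chain a b 2⁆ with hq
  set Z := ⁅⁅X, a⁆, b⁆ with hZ
  have hab : ⁅a, b⁆ = -chain a b 2 := (lie_skew a b).symm
  have e1 : Z = -q := by
    rw [hZ, lie_der X a b, hW2, zero_lie, zero_add, hab, lie_neg]
  have e2 : ⁅chain a b 3, side a b 2⁆ = q := by
    have hXb : ⁅side a b 2, chain a b 2⁆ = 0 := by
      have : ⁅X, b⁆ = -⁅side a b 2, chain a b 2⁆ := by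
        rw [hX, lie_der, hb, zero_lie, zero_add, hab, lie_neg]
      rw [hW2] at this
      exact neg_eq_zero.mp this.symm
    show ⁅⁅chain a b 2, a⁆, side a b 2⁆ = q
    rw [lie_der, ← lie_skew (chain a b 2) (side a b 2), hXb, neg_zero, zero_lie, zero_add,
      ← lie_skew a (side a b 2), lie_neg, hq, hX]
    exact lie_skew _ _
  have e3 : q = Z - q := by
    conv_lhs => rw [hq, ← hY, side, lie_der _ b (chain a b 2), hF, ← lie_skew b (chain a b 2),
      lie_neg]
    rw [← e2, hZ, sub_eq_add_neg]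
    rfl
  have h3q : (3 : ZMod p) • q = 0 := by
    rw [e1] at e3
    linear_combination (norm := module) e3
  have hq0 : q = 0 := by
    refine (smul_eq_zero.mp h3q).resolve_left ?_
    have := natCast_ne_zero (p := p) (m := 3) (by omega) (by have := h.lt; omega)
    exact_mod_cast this
  rw [e1, hq0, neg_zero]

theorem exists_chain : (∀ t, 1 ≤ t → t < n → chain a b t ≠ 0) ∨
    ∀ t, 1 ≤ t → t < n → chain b a t ≠ 0 := by
  have hab : ⁅a, b⁆ = -⁅b, a⁆ := (lie_skew a b).symm
  have m3 : chain b a 3 = -side a b 2 := by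
    show ⁅⁅a, b⁆, b⁆ = -⁅⁅b, a⁆, b⁆
    rw [hab, neg_lie]
  have m2 : side b a 2 = -chain a b 3 := by
    show ⁅⁅a, b⁆, a⁆ = -⁅⁅b, a⁆, a⁆
    rw [hab, neg_lie]
  have m4 : chain b a 4 = -⁅side a b 2, b⁆ := by
    show ⁅chain b a 3, b⁆ = _
    rw [m3, neg_lie]
  have h2 : side a b 2 = 0 → IsDead a b 2 := fun e => by simp [IsDead, e]
  have h2' : side b a 2 = 0 → IsDead b a 2 := fun e => by simp [IsDead, e]
  by_cases h3 : chain a b 3 = 0
  · have hs : side a b 2 ≠ 0 := fun e => by
      refine h.ne 3 (by omega) (by have := h.six_le; omega) (le_bot_iff.mp fun u hu => ?_)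
      obtain ⟨α, β, rfl⟩ := h.span (t := 3) (fun i hi => by
        have hi2 : i < 2 := by omega
        interval_cases i
        · exact isDead_zero a b
        · exact isDead_one a b) 3 (by omega) le_rfl u hu
      rw [show (3 : ℕ) - 1 = 2 from rfl, h3, e, smul_zero, smul_zero, add_zero]
      exact zero_mem _
    exact Or.inr (h.swap.chain_ne_zero (by rw [m3]; exact neg_ne_zero.mpr hs)
      (Or.inr (h2' (by rw [m2, h3, neg_zero]))))
  by_cases h4 : chain a b 4 ≠ 0 ∨ IsDead a b 2
  · exact Or.inl (h.chain_ne_zero h3 h4)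
  push Not at h4
  obtain ⟨h4, hlive⟩ := h4
  have hs : side a b 2 ≠ 0 := fun e => hlive (h2 e)
  by_cases hb : ⁅side a b 2, b⁆ = 0
  · -- both chains end
    exfalso
    have hk0 : (3 : ℕ) = j₀ := by
      by_contra hk
      refine hs (h.sep (k := 3) (by omega) hk (h.chain_mem 3 (by omega))
        (h.side_mem (i := 2) (by omega)) (h.map_chain 2) (h.map_side 1) ?_ h3)
      intro e
      refine h.ne_eigen (mul_left_cancel₀ (mul_ne_zero h.lam_ne h.mu_ne) ?_)
      linear_combination e
    by_cases hW2 : ⁅⁅side a b 2, a⁆, b⁆ = 0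
    · exact h.false_of_double h4 hb hW2
    · have hW1 : ⁅⁅side a b 2, a⁆, a⁆ = 0 := by
        have hX : ⁅side a b 2, a⁆ ∈ W 4 := h.lie_mem 3 1 _ _ (h.side_mem (by omega)) h.mem_a
        refine h.sep (k := 5) (by omega) (by omega) (h.lie_mem 4 1 _ _ hX h.mem_b)
          (h.lie_mem 4 1 _ _ hX h.mem_a)
          (h.map_lie_eigen (h.map_lie_eigen (h.map_side 1) h.map_a) h.map_b)
          (h.map_lie_eigen (h.map_lie_eigen (h.map_side 1) h.map_a) h.map_a) ?_ hW2
        intro e
        exact h.ne_eigen (mul_left_cancel₀ (mul_ne_zero (mul_ne_zero (pow_ne_zero _ h.lam_ne)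
          (pow_ne_zero _ h.mu_ne)) h.lam_ne) e).symm
      have hY : side a b 3 = ⁅side a b 2, a⁆ := by
        rw [side_succ_of_even (p := p) (fun l hl => by
          interval_cases l
          · exact isDead_zero a b
          · exact isDead_one a b) (m := 1) rfl, Nat.cast_one, one_smul]
      have m2X : ⁅side b a 2, b⁆ = -⁅side a b 2, a⁆ := by
        rw [m2, neg_lie]
        exact congrArg Neg.neg hY
      refine h.swap.false_of_double (by rw [m4, hb, neg_zero]) ?_ ?_
      · rw [m2, neg_lie, neg_eq_zero]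
        exact h4
      · rw [m2X, neg_lie, hW1, neg_zero]
  · exact Or.inr (h.swap.chain_ne_zero (by rw [m3]; exact neg_ne_zero.mpr hs)
      (Or.inl (by rw [m4]; exact neg_ne_zero.mpr hb)))

end MaxLie

end Cfsg.Agent.Lib.PF.Sec12.NarrowLine
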